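import Cfsg.Agent.H334.Star.Base
import Cfsg.Agent.H795.NotAbRows
import Cfsg.Agent.H42.Tw.F4Three
import Cfsg.Agent.S1163
import Cfsg.Agent.NotCT.Orders

/-!
# Groups of exceptional Lie type
-/

set_option autoImplicit false
set_option linter.unusedSectionVars false
set_option linter.unusedVariables false

open Subgroup

namespace Cfsg.Agent.H334.Star

open Cfsg Cfsg.Agent.H795 Cfsg.Agent.H795.NotAbRows

/-- characteristic 3 or `3 ≠ 0` -/
theorem charP_or (F : Type) [Field F] : CharP F 3 ∨ (3 : F) ≠ 0 := by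
  by_cases h : (3 : F) = 0
  · left
    obtain ⟨p, hp⟩ := CharP.exists F
    have h1 : p ∣ 3 := (CharP.cast_eq_zero_iff F p 3).1 (by exact_mod_cast h)
    have h2 : p ≠ 1 := CharP.char_ne_one F p
    have h3 : p = 3 := ((Nat.dvd_prime Nat.prime_three).1 h1).resolve_left h2
    subst h3
    exact hp
  · exact Or.inr h

theorem false_of_NotAb {K : Type*} [Group K] {L : Type*} [Group L] (h : Bad K) (e : K ≃* L)
    (hL : Cfsg.Agent.H800.Sp.NotAb 3 L) : False := by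
  have h3 : Fact (Nat.Prime 3) := ⟨Nat.prime_three⟩
  exact (h.of_equiv e).false_of_notAb ⟨default, hL _⟩

theorem suz_not_dvd {m : ℕ} (hm : 1 ≤ m) {n : ℕ}
    (hn : n = (2 ^ (2 * m + 1)) ^ 2 * (2 ^ (2 * m + 1) - 1) * ((2 ^ (2 * m + 1)) ^ 2 + 1)) : ¬ 243 ∣ n := by
  have h1 : 2 ^ (2 * m + 1) % 3 = 2 := by
    rw [pow_succ, pow_mul, Nat.mul_mod, Nat.pow_mod]
    norm_num
  intro h
  have h3 : 3 ∣ n := (by norm_num : 3 ∣ 243).trans h
  rw [hn] at h3
  have hq2 : (2 ^ (2 * m + 1)) ^ 2 % 3 = 1 := by rw [Nat.pow_mod, h1]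
  generalize 2 ^ (2 * m + 1) = q at *
  rcases (Nat.Prime.dvd_mul Nat.prime_three).1 h3 with h4 | h4
  · rcases (Nat.Prime.dvd_mul Nat.prime_three).1 h4 with h5 | h5
    · omega
    · omega
  · omega

/-- **Exceptional Lie type.** -/
theorem exc_row {K : Type*} [Group K] [Finite K] (hK : Cfsg.IsExceptionalLieType K) (h : Bad K) :
    Cfsg.IsLieTypeChar 3 K := by
  rcases hK with h1 | h1 | h1 | h1 | h1 | h1 | h1 | h1 | h1 | h1 | h1
  · obtain ⟨F, _, _, hF, ⟨e⟩⟩ := h1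
    rcases charP_or F with hc | hc
    · refine Or.inr (Or.inr (Or.inr (Or.inr (Or.inr (Or.inr (Or.inl ?_))))))
      exact ⟨F, inferInstance, inferInstance, hc, Or.inl ⟨hF, ⟨e⟩⟩⟩
    · exact (false_of_NotAb h e (g2 hc)).elim
  · obtain ⟨F, _, _, ⟨e⟩⟩ := h1
    rcases charP_or F with hc | hc
    · refine Or.inr (Or.inr (Or.inr (Or.inr (Or.inr (Or.inr (Or.inl ?_))))))
      exact ⟨F, inferInstance, inferInstance, hc, Or.inr (Or.inl ⟨e⟩)⟩
    · exact (false_of_NotAb h e (f4 hc)).elim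
  · obtain ⟨F, _, _, ⟨e⟩⟩ := h1
    rcases charP_or F with hc | hc
    · refine Or.inr (Or.inr (Or.inr (Or.inr (Or.inr (Or.inr (Or.inl ?_))))))
      exact ⟨F, inferInstance, inferInstance, hc, Or.inr (Or.inr (Or.inl ⟨e⟩))⟩
    · exact (false_of_NotAb h e (e6 hc)).elim
  · obtain ⟨F, _, _, ⟨e⟩⟩ := h1
    rcases charP_or F with hc | hc
    · refine Or.inr (Or.inr (Or.inr (Or.inr (Or.inr (Or.inr (Or.inl ?_))))))
      exact ⟨F, inferInstance, inferInstance, hc, Or.inr (Or.inr (Or.inr (Or.inl ⟨e⟩)))⟩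
    · exact (false_of_NotAb h e (e7 hc)).elim
  · obtain ⟨F, _, _, ⟨e⟩⟩ := h1
    rcases charP_or F with hc | hc
    · refine Or.inr (Or.inr (Or.inr (Or.inr (Or.inr (Or.inr (Or.inl ?_))))))
      exact ⟨F, inferInstance, inferInstance, hc, Or.inr (Or.inr (Or.inr (Or.inr ⟨e⟩)))⟩
    · exact (false_of_NotAb h e (e8 hc)).elim
  · obtain ⟨F, _, _, q, hq, hF, ⟨e⟩⟩ := h1
    rcases charP_or F with hc | hc
    · refine Or.inr (Or.inr (Or.inr (Or.inr (Or.inr (Or.inr (Or.inr (Or.inl ?_)))))))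
      exact ⟨F, inferInstance, inferInstance, hc, q, hq, Or.inl ⟨hF, ⟨e⟩⟩⟩
    · exact (false_of_NotAb h e (twE6 hc hq hF)).elim
  · obtain ⟨F, _, _, q, hq, hF, ⟨e⟩⟩ := h1
    rcases charP_or F with hc | hc
    · refine Or.inr (Or.inr (Or.inr (Or.inr (Or.inr (Or.inr (Or.inr (Or.inl ?_)))))))
      exact ⟨F, inferInstance, inferInstance, hc, q, hq, Or.inr ⟨hF, ⟨e⟩⟩⟩
    · exact (false_of_NotAb h e (twD4 hc hq hF)).elim
  · obtain ⟨F, _, _, m, hm, hF, ⟨e⟩⟩ := h1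
    refine absurd h.dvd (suz_not_dvd hm ?_)
    rw [Nat.card_congr e.toEquiv]
    exact (Cfsg.Agent.S1163.result hm hF).1
  · exact Or.inr (Or.inr (Or.inr (Or.inr (Or.inr (Or.inr (Or.inr (Or.inr (Or.inr (Or.inr ⟨rfl, h1⟩)))))))))
  · obtain ⟨F, _, _, m, hm, hF, ⟨e⟩⟩ := h1
    exfalso
    have h3 : Fact (Nat.Prime 3) := ⟨Nat.prime_three⟩
    have h2 : CharP F 2 := by
      obtain ⟨p, hp⟩ := CharP.exists F
      have hpp : p.Prime := (CharP.char_is_prime_or_zero F p).resolve_right (CharP.char_ne_zero_of_finite F p)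
      have : Fact p.Prime := ⟨hpp⟩
      obtain ⟨n, -, hn⟩ := FiniteField.card F p
      have h4 : p ∣ 2 ^ (2 * m + 1) := by
        rw [← hF, hn]
        exact dvd_pow_self p n.ne_zero
      have h5 := (Nat.prime_dvd_prime_iff_eq hpp Nat.prime_two).1 (hpp.dvd_of_dvd_pow h4)
      subst h5
      exact hp
    exact (h.of_equiv e).false_of_notAb ⟨default, Cfsg.Agent.H42.Tw.not_abelian_three F (by positivity) _⟩
  · exact absurd (NotCT.Orders.tits h1 ▸ h.dvd) (by norm_num)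

end Cfsg.Agent.H334.Star
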