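import Cfsg.Agent.H334.Star.PSL
import Cfsg.Agent.H104.OrthEmb
import Cfsg.Agent.S0292
import Cfsg.Agent.S0293
import Cfsg.Agent.S0294

/-!
# `PΩ(q)`, `3 ∤ q`
-/

set_option autoImplicit false
set_option linter.unusedSectionVars false
set_option linter.unusedVariables false

open Subgroup Matrix
open scoped commutatorElement

namespace Cfsg.Agent.H334.Star.Orth

open Cfsg QuadraticMap Cfsg.Agent.LieClassical Cfsg.Agent.H104.OrthEmb Cfsg.Agent.H356.SLTwo
  Cfsg.Agent.H356 Cfsg.Agent.H356.KillPSL Cfsg.Agent.H334.Star Cfsg.Agent.H334.Star.PSL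

variable {F : Type} [Field F] {ι : Type} [Fintype ι] [DecidableEq ι]

section trans

variable {Q : QuadraticForm F (ι → F)} (hQ : (polarBilin Q).Nondegenerate) (hn : 3 ≤ Fintype.card ι)
  (hs : ∃ u : ι → F, u ≠ 0 ∧ Q u = 0)

theorem mem_omega {H : Type*} [Group H] (f : H →* Cfsg.isometryGroup F (⇑Q)) {x : H} (hx : x ∈ commutator H) :
    f x ∈ Cfsg.Omega F (⇑Q) := by
  have h2 : f x ∈ (commutator H).map f := ⟨x, hx, rfl⟩
  have h3 : (commutator H).map f ≤ commutator (Cfsg.isometryGroup F (⇑Q)) := by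
    rw [commutator_def, commutator_def, Subgroup.map_commutator]
    exact Subgroup.commutator_mono le_top le_top
  exact h3 h2

include hQ hn hs

/-- commuting conjugates in the isometry group -/
theorem kill_comm (h : Bad (Cfsg.POmega F (⇑Q))) {H : Type*} [Group H] (f : H →* Cfsg.isometryGroup F (⇑Q))
    (hf : Function.Injective f) {x s : H} (hxc : x ∈ commutator H) (hsc : s ∈ commutator H) (hx : x ^ 3 = 1)
    (hs3 : s ^ 3 = 1) (h1 : x * (s * x * s⁻¹) = (s * x * s⁻¹) * x)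
    (h2 : x * (s⁻¹ * x * s) = (s⁻¹ * x * s) * x) (h3 : x * s ≠ s * x) : False := by
  let g : commutator H →* Cfsg.Omega F (⇑Q) := (f.comp (commutator H).subtype).codRestrict _
    fun x => mem_omega f x.2
  have hg : Function.Injective g := fun a b hab => Subtype.ext (hf (congrArg Subtype.val hab))
  let X : commutator H := ⟨x, hxc⟩
  let S : commutator H := ⟨s, hsc⟩
  have hX : X ^ 3 = 1 := Subtype.ext hx
  have hS : S ^ 3 = 1 := Subtype.ext hs3
  have e1 : X * (S * X * S⁻¹) = (S * X * S⁻¹) * X := Subtype.ext h1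
  have e2 : X * (S⁻¹ * X * S) = (S⁻¹ * X * S) * X := Subtype.ext h2
  refine h.kill (QuotientGroup.mk' (center (Cfsg.Omega F (⇑Q)))) (by rw [QuotientGroup.ker_mk']) (x := g X)
    (s := g S) (by rw [← map_pow, hX, map_one]) (by rw [← map_pow, hS, map_one])
    (by simpa only [map_mul, map_inv] using congrArg g e1) (by simpa only [map_mul, map_inv] using congrArg g e2) ?_
  intro hc
  have h4 : g (X * (S * X * S⁻¹)⁻¹) = 1 := by
    refine center_free hQ hn hs Nat.prime_three (by norm_num) _ ?_ ?_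
    · rw [← map_pow]
      have : (X * (S * X * S⁻¹)⁻¹) ^ 3 = 1 := by
        have hc2 : Commute X (S * X * S⁻¹)⁻¹ := Commute.inv_right e1
        rw [hc2.mul_pow, hX, one_mul, inv_pow, conj_pow, hX]
        simp
      rw [this, map_one]
    · rw [QuotientGroup.mk'_apply, QuotientGroup.eq_one_iff]
      simpa only [map_mul, map_inv] using hc
  have h5 : X * (S * X * S⁻¹)⁻¹ = 1 := hg (h4.trans (map_one g).symm)
  have h6 : x * (s * x * s⁻¹)⁻¹ = 1 := congrArg Subtype.val h5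
  apply h3
  have h7 := mul_inv_eq_one.1 h6
  calc x * s = (s * x * s⁻¹) * s := by rw [← h7]
    _ = s * x := by group

/-- elements of order 9 -/
theorem nine [Fintype F] {w : ℕ} (hw : 3 ≤ w)
    (hemb : ∃ f : Cfsg.isometryGroup F (Cfsg.quadFormPlus w F) →* Cfsg.isometryGroup F (⇑Q),
      Function.Injective f) (h3 : Fintype.card F % 3 ≠ 0) (h : Bad (Cfsg.POmega F (⇑Q))) :
    ¬ 9 ∣ Fintype.card F ^ 2 - 1 := by
  intro h9
  obtain ⟨f, hf⟩ := hemb
  obtain ⟨f₁, hf₁⟩ := exists_emb_sl (F := F) w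
  have hb : 2 * 1 ≤ w := by omega
  have hH : commutator (Matrix.SpecialLinearGroup (Fin w) F) = ⊤ := SLGen.commutator_eq_top (by simpa using hw)
  let g : Matrix.SpecialLinearGroup (Fin w) F →* Cfsg.Omega F (⇑Q) := (f.comp f₁).codRestrict _
    fun x => mem_omega (f.comp f₁) (by rw [hH]; trivial)
  have hg : Function.Injective g := fun a b hab => hf₁ (hf (congrArg Subtype.val hab))
  exact h.kill_nine (three_ne_zero_of h3) h9 (QuotientGroup.mk' (center (Cfsg.Omega F (⇑Q))))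
    (by rw [QuotientGroup.ker_mk']) (g.comp (KillPSL.f hb 0)) (hg.comp (f_injective hb 0))

end trans

/-! ### diagonal matrices in `SL_w` -/

theorem diag_facts {n : ℕ} (hn : 3 ≤ n) {ω : F} (hω : ω ^ 3 = 1) (hω1 : ω ≠ 1) :
    ∃ x s : Matrix.SpecialLinearGroup (Fin n) F, x ^ 3 = 1 ∧ s ^ 3 = 1 ∧
      x * (s * x * s⁻¹) = (s * x * s⁻¹) * x ∧ x * (s⁻¹ * x * s) = (s⁻¹ * x * s) * x ∧ x * s ≠ s * x := by
  let x : Matrix.SpecialLinearGroup (Fin n) F := dg (dt ω) (prod_dt (by omega) hω)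
  let s : Matrix.SpecialLinearGroup (Fin n) F := ⟨pm F (sd hn), det_pm _ (sd_cube hn)⟩
  have hι := (lin F n).inj
  have hx : KillPSL.iota F n x = diagonal (dt ω) := rfl
  have hs : KillPSL.iota F n s = pm F (sd hn) := rfl
  have hss : KillPSL.iota F n s * KillPSL.iota F n s⁻¹ = 1 := by rw [← map_mul, mul_inv_cancel, map_one]
  have hss' : KillPSL.iota F n s⁻¹ * KillPSL.iota F n s = 1 := by rw [← map_mul, inv_mul_cancel, map_one]
  have hy : KillPSL.iota F n (s * x * s⁻¹) = diagonal (dt ω ∘ sd hn) := by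
    rw [map_mul, map_mul, hx, hs, pm_diag, ← hs, mul_assoc, hss, mul_one]
  have hz : KillPSL.iota F n (s⁻¹ * x * s) = diagonal (dt ω ∘ (sd hn).symm) := by
    have e1 : pm F (sd hn) * diagonal (dt ω ∘ (sd hn).symm) = diagonal (dt ω) * pm F (sd hn) := by
      rw [pm_diag]
      congr 2
      funext i
      simp
    rw [map_mul, map_mul, hx, hs, mul_assoc, ← e1, ← mul_assoc, ← hs, hss', one_mul]
  have hcomm : ∀ t t' : Fin n → F, diagonal t * diagonal t' = diagonal t' * diagonal t := by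
    intro t t'
    rw [diagonal_mul_diagonal, diagonal_mul_diagonal]
    congr 1
    funext i
    exact mul_comm _ _
  refine ⟨x, s, ?_, ?_, ?_, ?_, ?_⟩
  · apply hι
    rw [map_pow, hx, map_one, diagonal_pow, ← diagonal_one]
    congr 1
    funext i
    exact dt_cube hω i
  · apply hι
    rw [map_pow, hs, map_one]
    exact pm_cube _ (sd_cube hn)
  · apply hι
    rw [map_mul _ x, map_mul _ _ x, hx, hy, hcomm]
  · apply hι
    rw [map_mul _ x, map_mul _ _ x, hx, hz, hcomm]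
  · intro hc
    have h1 : s * x * s⁻¹ = x := by rw [← hc]; group
    have h2 : diagonal (dt ω ∘ sd hn) = diagonal (dt ω) := by rw [← hy, h1, hx]
    have h3 := congrFun (diagonal_injective h2) ⟨0, by omega⟩
    simp only [Function.comp_apply] at h3
    rw [sd_zero hn] at h3
    simp only [dt] at h3
    norm_num at h3
    exact hω1 h3.symm

/-! ### four copies of `x² + xy + y²` -/

section four

/-- the form `Σ xᵢ² + xᵢyᵢ + yᵢ²` -/
def Q4 (v : Fin 4 → F × F) : F := ∑ i, ((v i).1 ^ 2 + (v i).1 * (v i).2 + (v i).2 ^ 2)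

/-- rotation of order 3 -/
def rot : (F × F) ≃ₗ[F] (F × F) where
  toFun v := (-v.1 - v.2, v.1)
  invFun v := (v.2, -v.1 - v.2)
  left_inv v := by
    apply Prod.ext
    · rfl
    · show -(-v.1 - v.2) - v.1 = v.2
      ring
  right_inv v := by
    apply Prod.ext
    · show -v.2 - (-v.1 - v.2) = v.1
      ring
    · rfl
  map_add' v w := by ext <;> simp <;> ring
  map_smul' c v := by ext <;> simp <;> ring

/-- rotation on one block -/
def R (k : Fin 4) : ReflGen.orth (F := F) (Q4 (F := F)) :=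
  ⟨LinearEquiv.piCongrRight fun i => if i = k then rot else LinearEquiv.refl F _, by
    intro v
    unfold Q4
    refine Finset.sum_congr rfl fun i _ => ?_
    rw [LinearEquiv.piCongrRight_apply]
    split_ifs
    · show (-(v i).1 - (v i).2) ^ 2 + (-(v i).1 - (v i).2) * (v i).1 + (v i).1 ^ 2 = _
      ring
    · rfl⟩

/-- permutation of the blocks -/
def Pm (σ : Equiv.Perm (Fin 4)) : ReflGen.orth (F := F) (Q4 (F := F)) :=
  ⟨LinearEquiv.funCongrLeft F (F × F) σ, by
    intro v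
    unfold Q4
    exact Equiv.sum_comp σ (fun i => (v i).1 ^ 2 + (v i).1 * (v i).2 + (v i).2 ^ 2)⟩

theorem orth_ext {a b : ReflGen.orth (F := F) (Q4 (F := F))}
    (h : ∀ v : Fin 4 → F × F, ∀ i, (a : (Fin 4 → F × F) ≃ₗ[F] (Fin 4 → F × F)) v i =
      (b : (Fin 4 → F × F) ≃ₗ[F] (Fin 4 → F × F)) v i) : a = b :=
  Subtype.ext (LinearEquiv.ext fun v => funext (h v))

theorem R_apply (k : Fin 4) (v : Fin 4 → F × F) (i : Fin 4) :
    ((R k : ReflGen.orth (F := F) (Q4 (F := F))) : (Fin 4 → F × F) ≃ₗ[F] (Fin 4 → F × F)) v i =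
      if i = k then rot (v i) else v i := by
  show (LinearEquiv.piCongrRight fun i => if i = k then rot else LinearEquiv.refl F (F × F)) v i = _
  rw [LinearEquiv.piCongrRight_apply]
  split_ifs <;> rfl

theorem Pm_apply (σ : Equiv.Perm (Fin 4)) (v : Fin 4 → F × F) (i : Fin 4) :
    ((Pm σ : ReflGen.orth (F := F) (Q4 (F := F))) : (Fin 4 → F × F) ≃ₗ[F] (Fin 4 → F × F)) v i = v (σ i) := rfl

theorem coe_mul (a b : ReflGen.orth (F := F) (Q4 (F := F))) (v : Fin 4 → F × F) :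
    ((a * b : ReflGen.orth (F := F) (Q4 (F := F))) : (Fin 4 → F × F) ≃ₗ[F] (Fin 4 → F × F)) v =
      (a : (Fin 4 → F × F) ≃ₗ[F] (Fin 4 → F × F)) ((b : (Fin 4 → F × F) ≃ₗ[F] (Fin 4 → F × F)) v) := rfl

theorem Pm_mul (σ τ : Equiv.Perm (Fin 4)) : (Pm σ * Pm τ : ReflGen.orth (F := F) (Q4 (F := F))) = Pm (τ * σ) := rfl

theorem Pm_one : (Pm 1 : ReflGen.orth (F := F) (Q4 (F := F))) = 1 := rfl

theorem Pm_R (σ : Equiv.Perm (Fin 4)) {k l : Fin 4} (h : σ l = k) :
    (Pm σ * R k : ReflGen.orth (F := F) (Q4 (F := F))) = R l * Pm σ := by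
  apply orth_ext
  intro v i
  rw [coe_mul, coe_mul, Pm_apply, R_apply, R_apply, Pm_apply]
  by_cases hi : i = l
  · subst hi; rw [if_pos h, if_pos rfl]
  · rw [if_neg hi, if_neg]
    rw [← h]
    exact fun e => hi (σ.injective e)

theorem rot_rot_rot (u : F × F) : rot (rot (rot u)) = u := by
  apply Prod.ext
  · show (-(-(-u.1 - u.2) - u.1) - (-u.1 - u.2) : F) = u.1
    ring
  · show (-(-u.1 - u.2) - u.1 : F) = u.2
    ring

theorem R_cube (k : Fin 4) : (R k : ReflGen.orth (F := F) (Q4 (F := F))) ^ 3 = 1 := by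
  apply orth_ext
  intro v i
  rw [pow_succ, pow_two, coe_mul, coe_mul, R_apply, R_apply, R_apply]
  show _ = v i
  split_ifs
  · exact rot_rot_rot _
  · rfl

theorem R_comm (k l : Fin 4) : (R k * R l : ReflGen.orth (F := F) (Q4 (F := F))) = R l * R k := by
  apply orth_ext
  intro v i
  rw [coe_mul, coe_mul, R_apply, R_apply, R_apply, R_apply]
  split_ifs <;> rfl

/-- the 3-cycle -/
def c4 : Equiv.Perm (Fin 4) := Equiv.swap 0 1 * Equiv.swap 1 2

theorem facts : ∃ x s : ReflGen.orth (F := F) (Q4 (F := F)), x ∈ commutator (ReflGen.orth (F := F) (Q4 (F := F))) ∧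
    s ∈ commutator (ReflGen.orth (F := F) (Q4 (F := F))) ∧ x ^ 3 = 1 ∧ s ^ 3 = 1 ∧
      x * (s * x * s⁻¹) = (s * x * s⁻¹) * x ∧ x * (s⁻¹ * x * s) = (s⁻¹ * x * s) * x ∧ x * s ≠ s * x := by
  let A : ReflGen.orth (F := F) (Q4 (F := F)) := R 0
  let B : ReflGen.orth (F := F) (Q4 (F := F)) := R 1
  let C : ReflGen.orth (F := F) (Q4 (F := F)) := R 2
  let s : ReflGen.orth (F := F) (Q4 (F := F)) := Pm c4
  have sA : s * A = C * s := Pm_R c4 (by decide)
  have sB : s * B = A * s := Pm_R c4 (by decide)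
  have sC : s * C = B * s := Pm_R c4 (by decide)
  have tA : s * A * s⁻¹ = C := by rw [sA]; group
  have tB : s * B * s⁻¹ = A := by rw [sB]; group
  have uA : s⁻¹ * A * s = B := by rw [mul_assoc, ← sB]; group
  have uB : s⁻¹ * B * s = C := by rw [mul_assoc, ← sC]; group
  have hBB : B * B = B⁻¹ := by
    rw [eq_inv_iff_mul_eq_one, ← pow_two, ← pow_succ]
    exact R_cube 1
  have hss : s ^ 3 = 1 := by
    have : c4 * (c4 * c4) = 1 := by decide
    calc s ^ 3 = s * s * s := by rw [pow_succ, pow_two]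
      _ = Pm (c4 * (c4 * c4)) := rfl
      _ = 1 := by rw [this]; rfl
  have hAB : Commute A B := R_comm 0 1
  have hAC : Commute A C := R_comm 0 2
  have hBC : Commute B C := R_comm 1 2
  have hx1 : s * (A * (B * B)) * s⁻¹ = C * (A * A) := by
    calc s * (A * (B * B)) * s⁻¹ = (s * A * s⁻¹) * ((s * B * s⁻¹) * (s * B * s⁻¹)) := by group
      _ = _ := by rw [tA, tB]
  have hx2 : s⁻¹ * (A * (B * B)) * s = B * (C * C) := by
    calc s⁻¹ * (A * (B * B)) * s = (s⁻¹ * A * s) * ((s⁻¹ * B * s) * (s⁻¹ * B * s)) := by group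
      _ = _ := by rw [uA, uB]
  refine ⟨A * (B * B), s, ?_, ?_, ?_, hss, ?_, ?_, ?_⟩
  · have : A * (B * B) = ⁅A, s⁻¹⁆ := by
      rw [hBB, commutatorElement_def, inv_inv, mul_assoc, mul_assoc]
      congr 1
      rw [← uA]; group
    rw [this]
    exact commutator_mem_commutator (mem_top _) (mem_top _)
  · have : s = ⁅(Pm (Equiv.swap 0 1) : ReflGen.orth (F := F) (Q4 (F := F))), Pm (Equiv.swap 1 2)⁆ := by
      have i1 : (Pm (Equiv.swap 0 1) : ReflGen.orth (F := F) (Q4 (F := F)))⁻¹ = Pm (Equiv.swap 0 1) := by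
        rw [inv_eq_iff_mul_eq_one, Pm_mul, Equiv.swap_mul_self]; rfl
      have i2 : (Pm (Equiv.swap 1 2) : ReflGen.orth (F := F) (Q4 (F := F)))⁻¹ = Pm (Equiv.swap 1 2) := by
        rw [inv_eq_iff_mul_eq_one, Pm_mul, Equiv.swap_mul_self]; rfl
      rw [commutatorElement_def, i1, i2, Pm_mul, Pm_mul, Pm_mul]
      show Pm c4 = _
      congr 1
      decide
    rw [this]
    exact commutator_mem_commutator (mem_top _) (mem_top _)
  · rw [(hAB.mul_right hAB).mul_pow, (Commute.refl B).mul_pow]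
    show (R 0) ^ 3 * ((R 1) ^ 3 * (R 1) ^ 3) = 1
    rw [R_cube, R_cube]
    simp
  · rw [hx1]
    have c1 : Commute A (C * (A * A)) := hAC.mul_right ((Commute.refl A).mul_right (Commute.refl A))
    have c2 : Commute B (C * (A * A)) := hBC.mul_right (hAB.symm.mul_right hAB.symm)
    exact c1.mul_left (c2.mul_left c2)
  · rw [hx2]
    have c1 : Commute A (B * (C * C)) := hAB.mul_right (hAC.mul_right hAC)
    have c2 : Commute B (B * (C * C)) := (Commute.refl B).mul_right (hBC.mul_right hBC)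
    exact c1.mul_left (c2.mul_left c2)
  · intro h
    have h1 : s * (A * (B * B)) * s⁻¹ = A * (B * B) := by rw [← h]; group
    rw [hx1] at h1
    have h2 := congrArg (fun a : ReflGen.orth (F := F) (Q4 (F := F)) =>
      ((a : (Fin 4 → F × F) ≃ₗ[F] (Fin 4 → F × F)) (fun _ => (1, 0)) 2).2) h1
    simp only [coe_mul] at h2
    have h3 : ∀ (a : ReflGen.orth (F := F) (Q4 (F := F))) (v : Fin 4 → F × F), a = A ∨ a = B →
        (a : (Fin 4 → F × F) ≃ₗ[F] (Fin 4 → F × F)) v 2 = v 2 := by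
      rintro a v (rfl | rfl)
      · show ((R 0 : ReflGen.orth (F := F) (Q4 (F := F))) : (Fin 4 → F × F) ≃ₗ[F] (Fin 4 → F × F)) v 2 = v 2
        rw [R_apply, if_neg (by decide)]
      · show ((R 1 : ReflGen.orth (F := F) (Q4 (F := F))) : (Fin 4 → F × F) ≃ₗ[F] (Fin 4 → F × F)) v 2 = v 2
        rw [R_apply, if_neg (by decide)]
    rw [h3 A _ (Or.inl rfl), h3 B _ (Or.inr rfl), h3 B _ (Or.inr rfl)] at h2
    have h4 : ∀ v : Fin 4 → F × F, (C : (Fin 4 → F × F) ≃ₗ[F] (Fin 4 → F × F)) v 2 = rot (v 2) := by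
      intro v
      show ((R 2 : ReflGen.orth (F := F) (Q4 (F := F))) : (Fin 4 → F × F) ≃ₗ[F] (Fin 4 → F × F)) v 2 = _
      rw [R_apply, if_pos rfl]
    rw [h4, h3 A _ (Or.inl rfl), h3 A _ (Or.inl rfl)] at h2
    exact one_ne_zero h2

/-- forward map on a pair of hyperbolic planes -/
def fwd (a b c : F) (x y x' y' : F) : Fin 2 → F × F :=
  ![(x + c * (x' - y'), y + c * y'),
    (a * (x - c * x') - b * (y + c * (x' - y')), b * (x - c * x') + (a + b) * (y + c * (x' - y')))]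

/-- backward map -/
def bwd (a b c : F) (p q : F × F) : Fin 4 → F :=
  ![p.1 - c * ((p.1 + ((a + b) * q.1 + b * q.2)) - (p.2 - (b * q.1 - a * q.2))),
    p.2 - c * ((p.1 + ((a + b) * q.1 + b * q.2)) + 2 * (p.2 - (b * q.1 - a * q.2))),
    2 * (p.1 + ((a + b) * q.1 + b * q.2)) + (p.2 - (b * q.1 - a * q.2)),
    (p.1 + ((a + b) * q.1 + b * q.2)) + 2 * (p.2 - (b * q.1 - a * q.2))]

theorem bwd_fwd {a b c : F} (hab : a ^ 2 + a * b + b ^ 2 = -1) (hc : 3 * c = 1) (x y x' y' : F) :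
    bwd a b c (fwd a b c x y x' y' 0) (fwd a b c x y x' y' 1) = ![x, y, x', y'] := by
  have h0 : fwd a b c x y x' y' 0 = (x + c * (x' - y'), y + c * y') := rfl
  have h1 : fwd a b c x y x' y' 1 =
    (a * (x - c * x') - b * (y + c * (x' - y')), b * (x - c * x') + (a + b) * (y + c * (x' - y'))) := rfl
  rw [h0, h1, bwd]
  simp only
  have e1 : (a + b) * (a * (x - c * x') - b * (y + c * (x' - y'))) +
      b * (b * (x - c * x') + (a + b) * (y + c * (x' - y'))) = -(x - c * x') := by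
    linear_combination (x - c * x') * hab
  have e2 : b * (a * (x - c * x') - b * (y + c * (x' - y'))) -
      a * (b * (x - c * x') + (a + b) * (y + c * (x' - y'))) = (y + c * (x' - y')) := by
    linear_combination -(y + c * (x' - y')) * hab
  rw [e1, e2]
  funext i
  fin_cases i
  · show x + c * (x' - y') - c * (x + c * (x' - y') + -(x - c * x') - (y + c * y' - (y + c * (x' - y')))) = x
    linear_combination (-c * (x' - y')) * hc
  · show y + c * y' - c * (x + c * (x' - y') + -(x - c * x') + 2 * (y + c * y' - (y + c * (x' - y')))) = y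
    linear_combination (-c * y') * hc
  · show 2 * (x + c * (x' - y') + -(x - c * x')) + (y + c * y' - (y + c * (x' - y'))) = x'
    linear_combination x' * hc
  · show (x + c * (x' - y') + -(x - c * x')) + 2 * (y + c * y' - (y + c * (x' - y'))) = y'
    linear_combination y' * hc

theorem fwd_bwd {a b c : F} (hab : a ^ 2 + a * b + b ^ 2 = -1) (hc : 3 * c = 1) (p q : F × F) :
    fwd a b c (bwd a b c p q 0) (bwd a b c p q 1) (bwd a b c p q 2) (bwd a b c p q 3) = ![p, q] := by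
  obtain ⟨u, v⟩ := p
  obtain ⟨z, t⟩ := q
  have h0 : bwd a b c (u, v) (z, t) 0 = u - c * ((u + ((a + b) * z + b * t)) - (v - (b * z - a * t))) := rfl
  have h1 : bwd a b c (u, v) (z, t) 1 = v - c * ((u + ((a + b) * z + b * t)) + 2 * (v - (b * z - a * t))) := rfl
  have h2 : bwd a b c (u, v) (z, t) 2 = 2 * (u + ((a + b) * z + b * t)) + (v - (b * z - a * t)) := rfl
  have h3 : bwd a b c (u, v) (z, t) 3 = (u + ((a + b) * z + b * t)) + 2 * (v - (b * z - a * t)) := rfl
  have e1 : bwd a b c (u, v) (z, t) 0 + c * (bwd a b c (u, v) (z, t) 2 - bwd a b c (u, v) (z, t) 3) = u := by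
    rw [h0, h2, h3]; ring
  have e2 : bwd a b c (u, v) (z, t) 1 + c * bwd a b c (u, v) (z, t) 3 = v := by
    rw [h1, h3]; ring
  have e3 : bwd a b c (u, v) (z, t) 0 - c * bwd a b c (u, v) (z, t) 2 = -((a + b) * z + b * t) := by
    rw [h0, h2]
    linear_combination (-(u + ((a + b) * z + b * t))) * hc
  have e4 : bwd a b c (u, v) (z, t) 1 + c * (bwd a b c (u, v) (z, t) 2 - bwd a b c (u, v) (z, t) 3) =
      b * z - a * t := by
    rw [h1, h2, h3]
    linear_combination (-(v - (b * z - a * t))) * hc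
  funext i
  fin_cases i
  · show (_, _) = (u, v)
    rw [e1, e2]
  · show (_, _) = (z, t)
    rw [e3, e4]
    refine Prod.ext ?_ ?_
    · show a * -((a + b) * z + b * t) - b * (b * z - a * t) = z
      linear_combination (-z) * hab
    · show b * -((a + b) * z + b * t) + (a + b) * (b * z - a * t) = t
      linear_combination (-t) * hab

theorem fwd_form {a b c : F} (hab : a ^ 2 + a * b + b ^ 2 = -1) (hc : 3 * c = 1) (x y x' y' : F) :
    ((fwd a b c x y x' y' 0).1 ^ 2 + (fwd a b c x y x' y' 0).1 * (fwd a b c x y x' y' 0).2 +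
      (fwd a b c x y x' y' 0).2 ^ 2) + ((fwd a b c x y x' y' 1).1 ^ 2 + (fwd a b c x y x' y' 1).1 *
      (fwd a b c x y x' y' 1).2 + (fwd a b c x y x' y' 1).2 ^ 2) = x * x' + y * y' := by
  have h0 : fwd a b c x y x' y' 0 = (x + c * (x' - y'), y + c * y') := rfl
  have h1 : fwd a b c x y x' y' 1 =
    (a * (x - c * x') - b * (y + c * (x' - y')), b * (x - c * x') + (a + b) * (y + c * (x' - y'))) := rfl
  rw [h0, h1]
  simp only
  have e1 : (a * (x - c * x') - b * (y + c * (x' - y'))) ^ 2 +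
      (a * (x - c * x') - b * (y + c * (x' - y'))) * (b * (x - c * x') + (a + b) * (y + c * (x' - y'))) +
      (b * (x - c * x') + (a + b) * (y + c * (x' - y'))) ^ 2 =
      -((x - c * x') ^ 2 + (x - c * x') * (y + c * (x' - y')) + (y + c * (x' - y')) ^ 2) := by
    linear_combination ((x - c * x') ^ 2 + (x - c * x') * (y + c * (x' - y')) + (y + c * (x' - y')) ^ 2) * hab
  rw [e1]
  linear_combination (x * x' + y * y') * hc

/-- the isometry -/
def T {a b c : F} (hab : a ^ 2 + a * b + b ^ 2 = -1) (hc : 3 * c = 1) :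
    (Fin 4 ⊕ Fin 4 → F) ≃ₗ[F] (Fin 4 → F × F) where
  toFun v := ![fwd a b c (v (.inl 0)) (v (.inl 1)) (v (.inr 0)) (v (.inr 1)) 0,
    fwd a b c (v (.inl 0)) (v (.inl 1)) (v (.inr 0)) (v (.inr 1)) 1,
    fwd a b c (v (.inl 2)) (v (.inl 3)) (v (.inr 2)) (v (.inr 3)) 0,
    fwd a b c (v (.inl 2)) (v (.inl 3)) (v (.inr 2)) (v (.inr 3)) 1]
  invFun p := Sum.elim ![bwd a b c (p 0) (p 1) 0, bwd a b c (p 0) (p 1) 1, bwd a b c (p 2) (p 3) 0,
      bwd a b c (p 2) (p 3) 1] ![bwd a b c (p 0) (p 1) 2, bwd a b c (p 0) (p 1) 3, bwd a b c (p 2) (p 3) 2,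
      bwd a b c (p 2) (p 3) 3]
  left_inv v := by
    have h1 := bwd_fwd hab hc (v (.inl 0)) (v (.inl 1)) (v (.inr 0)) (v (.inr 1))
    have h2 := bwd_fwd hab hc (v (.inl 2)) (v (.inl 3)) (v (.inr 2)) (v (.inr 3))
    funext i
    rcases i with i | i <;> fin_cases i
    · exact congrFun h1 0
    · exact congrFun h1 1
    · exact congrFun h2 0
    · exact congrFun h2 1
    · exact congrFun h1 2
    · exact congrFun h1 3
    · exact congrFun h2 2
    · exact congrFun h2 3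
  right_inv p := by
    have h1 := fwd_bwd hab hc (p 0) (p 1)
    have h2 := fwd_bwd hab hc (p 2) (p 3)
    funext i
    fin_cases i
    · exact congrFun h1 0
    · exact congrFun h1 1
    · exact congrFun h2 0
    · exact congrFun h2 1
  map_add' v w := by
    funext i
    fin_cases i <;> refine Prod.ext ?_ ?_ <;> simp [fwd] <;> ring
  map_smul' k v := by
    funext i
    fin_cases i <;> refine Prod.ext ?_ ?_ <;> simp [fwd] <;> ring

theorem Q4_T {a b c : F} (hab : a ^ 2 + a * b + b ^ 2 = -1) (hc : 3 * c = 1) (v : Fin 4 ⊕ Fin 4 → F) :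
    Q4 (T hab hc v) = Cfsg.quadFormPlus 4 F v := by
  have h1 := fwd_form hab hc (v (.inl 0)) (v (.inl 1)) (v (.inr 0)) (v (.inr 1))
  have h2 := fwd_form hab hc (v (.inl 2)) (v (.inl 3)) (v (.inr 2)) (v (.inr 3))
  have e0 : T hab hc v 0 = fwd a b c (v (.inl 0)) (v (.inl 1)) (v (.inr 0)) (v (.inr 1)) 0 := rfl
  have e1 : T hab hc v 1 = fwd a b c (v (.inl 0)) (v (.inl 1)) (v (.inr 0)) (v (.inr 1)) 1 := rfl
  have e2 : T hab hc v 2 = fwd a b c (v (.inl 2)) (v (.inl 3)) (v (.inr 2)) (v (.inr 3)) 0 := rfl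
  have e3 : T hab hc v 3 = fwd a b c (v (.inl 2)) (v (.inl 3)) (v (.inr 2)) (v (.inr 3)) 1 := rfl
  rw [Q4, Cfsg.quadFormPlus, Fin.sum_univ_four, Fin.sum_univ_four, e0, e1, e2, e3]
  linear_combination h1 + h2

/-- the embedding -/
theorem exists_emb_four [Finite F] (h3 : (3 : F) ≠ 0) :
    ∃ f : ReflGen.orth (F := F) (Q4 (F := F)) →* Cfsg.isometryGroup F (Cfsg.quadFormPlus 4 F),
      Function.Injective f := by
  obtain ⟨a, b, hab⟩ := Cfsg.Agent.H356.SLTwo.exists_norm h3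
  have hc : (3 : F) * (3 : F)⁻¹ = 1 := mul_inv_cancel₀ h3
  let t := T hab hc
  have ht : ∀ v, Q4 (t v) = Cfsg.quadFormPlus 4 F v := Q4_T hab hc
  let g : ReflGen.orth (F := F) (Q4 (F := F)) →* ReflGen.orth (F := F) (Cfsg.quadFormPlus 4 F) :=
    { toFun := fun u => ⟨t.trans ((u : (Fin 4 → F × F) ≃ₗ[F] (Fin 4 → F × F)).trans t.symm), by
        intro v
        show Cfsg.quadFormPlus 4 F (t.symm ((u : (Fin 4 → F × F) ≃ₗ[F] (Fin 4 → F × F)) (t v))) = _
        rw [← ht, LinearEquiv.apply_symm_apply, u.2, ht]⟩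
      map_one' := by
        apply Subtype.ext
        apply LinearEquiv.ext
        intro v
        exact t.symm_apply_apply v
      map_mul' := by
        intro u w
        apply Subtype.ext
        apply LinearEquiv.ext
        intro v
        show t.symm ((u : (Fin 4 → F × F) ≃ₗ[F] (Fin 4 → F × F)) ((w : (Fin 4 → F × F) ≃ₗ[F] (Fin 4 → F × F)) (t v))) =
          t.symm ((u : (Fin 4 → F × F) ≃ₗ[F] (Fin 4 → F × F)) (t (t.symm
            ((w : (Fin 4 → F × F) ≃ₗ[F] (Fin 4 → F × F)) (t v)))))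
        rw [LinearEquiv.apply_symm_apply] }
  have hg : Function.Injective g := by
    intro u w h
    apply Subtype.ext
    apply LinearEquiv.ext
    intro v
    have h1 := congrArg (fun x : ReflGen.orth (F := F) (Cfsg.quadFormPlus 4 F) =>
      (x : (Fin 4 ⊕ Fin 4 → F) ≃ₗ[F] (Fin 4 ⊕ Fin 4 → F)) (t.symm v)) h
    have h2 : t.symm ((u : (Fin 4 → F × F) ≃ₗ[F] (Fin 4 → F × F)) (t (t.symm v))) =
      t.symm ((w : (Fin 4 → F × F) ≃ₗ[F] (Fin 4 → F × F)) (t (t.symm v))) := h1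
    rw [LinearEquiv.apply_symm_apply] at h2
    exact t.symm.injective h2
  exact ⟨(SixModel.isometryEquiv (Cfsg.quadFormPlus 4 F)).symm.toMonoidHom.comp g,
    (SixModel.isometryEquiv (Cfsg.quadFormPlus 4 F)).symm.injective.comp hg⟩

end four

/-- Witt index `≥ 4` -/
theorem four [Fintype F] {Q : QuadraticForm F (ι → F)} (hQ : (polarBilin Q).Nondegenerate)
    (hn : 3 ≤ Fintype.card ι) (hs : ∃ u : ι → F, u ≠ 0 ∧ Q u = 0) {w : ℕ} (hw : 4 ≤ w)
    (hemb : ∃ f : Cfsg.isometryGroup F (Cfsg.quadFormPlus w F) →* Cfsg.isometryGroup F (⇑Q),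
      Function.Injective f) (h3 : Fintype.card F % 3 ≠ 0) (h : Bad (Cfsg.POmega F (⇑Q))) : False := by
  obtain ⟨f, hf⟩ := hemb
  obtain ⟨f₂, hf₂⟩ := exists_emb_plus (F := F) hw
  obtain ⟨f₁, hf₁⟩ := exists_emb_four (F := F) (three_ne_zero_of h3)
  obtain ⟨x, s, hxc, hsc, hx, hs3, h1, h2, h4⟩ := facts (F := F)
  exact kill_comm hQ hn hs h ((f.comp f₂).comp f₁) ((hf.comp hf₂).comp hf₁) hxc hsc hx hs3 h1 h2 h4

/-! ### orders -/

theorem sq_mod {q : ℕ} (h3 : q % 3 ≠ 0) (h9 : ¬ 9 ∣ q ^ 2 - 1) : ∃ a, q ^ 2 = 3 * a + 1 ∧ a % 3 ≠ 0 := by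
  have h1 : q ^ 2 % 3 = 1 := by
    have : q % 3 = 1 ∨ q % 3 = 2 := by omega
    rcases this with h | h <;> simp [Nat.pow_mod, h]
  refine ⟨q ^ 2 / 3, by omega, ?_⟩
  intro h
  apply h9
  have h4 : q ^ 2 = 3 * (q ^ 2 / 3) + 1 := by omega
  obtain ⟨b, hb⟩ : ∃ b, q ^ 2 / 3 = 3 * b := ⟨q ^ 2 / 3 / 3, by omega⟩
  rw [hb] at h4
  exact ⟨b, by omega⟩

theorem num {q c N M e : ℕ} (h3 : q % 3 ≠ 0) (h9 : ¬ 9 ∣ q ^ 2 - 1) (hM : M % 3 ≠ 0)
    (h : c * N = q ^ e * M * ((q ^ 2 - 1) * ((q ^ 4 - 1) * (q ^ 6 - 1)))) (hd : 243 ∣ N) : False := by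
  obtain ⟨a, ha, ha3⟩ := sq_mod h3 h9
  have h4 : q ^ 4 - 1 = 3 * (a * (3 * a + 2)) := by
    have : q ^ 4 = 3 * (a * (3 * a + 2)) + 1 := by
      have : q ^ 4 = (q ^ 2) ^ 2 := by ring
      rw [this, ha]; ring
    omega
  have h6 : q ^ 6 - 1 = 9 * (a * (3 * a ^ 2 + 3 * a + 1)) := by
    have : q ^ 6 = 9 * (a * (3 * a ^ 2 + 3 * a + 1)) + 1 := by
      have : q ^ 6 = (q ^ 2) ^ 3 := by ring
      rw [this, ha]; ring
    omega
  have h2 : q ^ 2 - 1 = 3 * a := by omega
  rw [h2, h4, h6] at h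
  have h5 : 243 ∣ c * N := dvd_mul_of_dvd_right hd _
  rw [h] at h5
  have e1 : q ^ e * M * (3 * a * (3 * (a * (3 * a + 2)) * (9 * (a * (3 * a ^ 2 + 3 * a + 1))))) =
      81 * (q ^ e * M * (a * (a * (3 * a + 2) * (a * (3 * a ^ 2 + 3 * a + 1))))) := by ring
  rw [e1] at h5
  have h7 : 3 ∣ q ^ e * M * (a * (a * (3 * a + 2) * (a * (3 * a ^ 2 + 3 * a + 1)))) := by
    have : 81 * 3 ∣ 81 * (q ^ e * M * (a * (a * (3 * a + 2) * (a * (3 * a ^ 2 + 3 * a + 1))))) := h5
    exact Nat.dvd_of_mul_dvd_mul_left (by norm_num) this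
  have hp := Nat.prime_three
  have hq : ¬ 3 ∣ q ^ e := fun h => by
    have := hp.dvd_of_dvd_pow h
    omega
  have hM' : ¬ 3 ∣ M := by omega
  have ha' : ¬ 3 ∣ a := by omega
  have hb : ¬ 3 ∣ 3 * a + 2 := by omega
  have hc : ¬ 3 ∣ 3 * a ^ 2 + 3 * a + 1 := by
    intro h
    have : 3 * a ^ 2 + 3 * a + 1 = 3 * (a ^ 2 + a) + 1 := by ring
    omega
  simp only [hp.dvd_mul, hq, hM', ha', hb, hc, or_self] at h7

theorem two_ne_zero_of_odd [Fintype F] (hodd : Odd (Fintype.card F)) : (2 : F) ≠ 0 := by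
  intro h0
  obtain ⟨p, hp⟩ := CharP.exists F
  have hp2 : p ∣ 2 := (CharP.cast_eq_zero_iff F p 2).1 (by exact_mod_cast h0)
  have hpp : p.Prime := (CharP.char_is_prime_or_zero F p).resolve_right (CharP.char_ne_zero_of_finite F p)
  have hp2' : p = 2 := (Nat.prime_dvd_prime_iff_eq hpp Nat.prime_two).1 hp2
  subst hp2'
  have : Fact (Nat.Prime 2) := ⟨Nat.prime_two⟩
  obtain ⟨n, -, hn⟩ := FiniteField.card F 2
  rw [hn] at hodd
  exact Nat.not_even_iff_odd.2 hodd (Nat.even_pow.2 ⟨even_two, n.ne_zero⟩)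

/-- **The row `PΩ_{2m+1}(q)`.** -/
theorem odd_row [Fintype F] {m : ℕ} (hm : 3 ≤ m) (hodd : Odd (Fintype.card F)) (h3 : Fintype.card F % 3 ≠ 0)
    (h : Bad (Cfsg.POmega F (Cfsg.quadFormOdd m F))) : False := by
  have h2 := two_ne_zero_of_odd hodd
  have hfin : Finite (Cfsg.POmega F (Cfsg.quadFormOdd m F)) := Quotient.finite _
  have hemb : ∃ f : Cfsg.isometryGroup F (Cfsg.quadFormPlus m F) →*
      Cfsg.isometryGroup F (⇑(OmegaReindex.quadOdd m F)), Function.Injective f := by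
    rw [OmegaReindex.coe_quadOdd]
    exact exists_emb_odd m
  have hd := h.dvd
  have h' : Bad (Cfsg.POmega F (⇑(OmegaReindex.quadOdd m F))) := by
    rw [OmegaReindex.coe_quadOdd]; exact h
  have h9 := nine (OmegaReindex.quadOdd_nondegenerate h2) (by simp; omega)
    (OmegaReindex.quadOdd_isotropic (by omega)) hm hemb h3 h'
  rcases Nat.lt_or_ge m 4 with hlt | hge
  · obtain rfl : m = 3 := by omega
    have hc := Cfsg.Agent.S0292.result (F := F) rfl hodd 3 le_rfl
    refine num (c := 2) (M := 1) (e := 9) h3 h9 (by norm_num) ?_ hd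
    rw [hc, Finset.prod_range_succ, Finset.prod_range_succ, Finset.prod_range_succ, Finset.prod_range_zero]
    norm_num
    ring
  · exact four (OmegaReindex.quadOdd_nondegenerate h2) (by simp; omega)
      (OmegaReindex.quadOdd_isotropic (by omega)) hge hemb h3 h'

/-- **The row `PΩ⁺_{2m}(q)`.** -/
theorem plus_row [Fintype F] {m : ℕ} (hm : 4 ≤ m) (h3 : Fintype.card F % 3 ≠ 0)
    (h : Bad (Cfsg.POmega F (Cfsg.quadFormPlus m F))) : False := by
  have hemb : ∃ f : Cfsg.isometryGroup F (Cfsg.quadFormPlus m F) →*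
      Cfsg.isometryGroup F (⇑(OmegaReindex.quadPlus m F)), Function.Injective f := by
    rw [OmegaReindex.coe_quadPlus]
    exact ⟨MonoidHom.id _, fun _ _ h => h⟩
  have h' : Bad (Cfsg.POmega F (⇑(OmegaReindex.quadPlus m F))) := by
    rw [OmegaReindex.coe_quadPlus]; exact h
  exact four OmegaReindex.quadPlus_nondegenerate (by simp; omega)
      (OmegaReindex.quadPlus_isotropic (by omega)) hm hemb h3 h'

/-- **The row `PΩ⁻_{2m}(q)`.** -/
theorem minus_row [Fintype F] {m : ℕ} (hm : 4 ≤ m) (a b : F)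
    (hab : ∀ z₁ z₂ : F, z₁ ^ 2 + a * z₁ * z₂ + b * z₂ ^ 2 = 0 → z₁ = 0 ∧ z₂ = 0) (h3 : Fintype.card F % 3 ≠ 0)
    (h : Bad (Cfsg.POmega F (Cfsg.quadFormMinus (m - 1) F a b))) : False := by
  have hfin : Finite (Cfsg.POmega F (Cfsg.quadFormMinus (m - 1) F a b)) := Quotient.finite _
  have hemb : ∃ f : Cfsg.isometryGroup F (Cfsg.quadFormPlus (m - 1) F) →*
      Cfsg.isometryGroup F (⇑(OmegaReindex.quadMinus (m - 1) F a b)), Function.Injective f := by
    rw [OmegaReindex.coe_quadMinus]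
    exact exists_emb_minus (m - 1) a b
  have hd := h.dvd
  have h' : Bad (Cfsg.POmega F (⇑(OmegaReindex.quadMinus (m - 1) F a b))) := by
    rw [OmegaReindex.coe_quadMinus]; exact h
  have h9 := nine (OmegaReindex.quadMinus_nondegenerate hab) (by simp; omega)
    (OmegaReindex.quadMinus_isotropic (by omega) a b) (by omega) hemb h3 h'
  rcases Nat.lt_or_ge m 5 with hlt | hge
  · obtain rfl : m = 4 := by omega
    have hc := Cfsg.Agent.S0294.result (F := F) rfl 4 le_rfl a b hab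
    refine num (c := Nat.gcd 4 (Fintype.card F ^ 4 + 1)) (M := Fintype.card F ^ 4 + 1) (e := 12) h3 h9 ?_ ?_ hd
    · have : Fintype.card F ^ 4 % 3 = 1 := by
        have : Fintype.card F % 3 = 1 ∨ Fintype.card F % 3 = 2 := by omega
        rcases this with h | h <;> simp [Nat.pow_mod, h]
      omega
    · rw [hc]
      show _ = _
      rw [Finset.prod_range_succ, Finset.prod_range_succ, Finset.prod_range_succ, Finset.prod_range_zero]
      norm_num
      ring
  · exact four (OmegaReindex.quadMinus_nondegenerate hab) (by simp; omega)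
      (OmegaReindex.quadMinus_isotropic (by omega) a b) (w := m - 1) (by omega) hemb h3 h'

end Cfsg.Agent.H334.Star.Orth
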