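import Cfsg.Agent.H334.Star.Kill
import Cfsg.Agent.H356.KillPSL

/-!
# `PSL_n(q)`, `3 ∤ q`
-/

set_option autoImplicit false
set_option linter.unusedSectionVars false
set_option linter.unusedVariables false

open Subgroup Matrix

namespace Cfsg.Agent.H334.Star.PSL

open Cfsg.Agent.H356.SLTwo Cfsg.Agent.H356.SLTorus Cfsg.Agent.H356 Cfsg.Agent.H356.KillPSL Cfsg.Agent.H334.Star

variable {F : Type*} [Field F] {n : ℕ}

/-- the 3-cycle `0 → 2 → 1 → 0` -/
def cc : Equiv.Perm (Fin 3) := (finRotate 3).symm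

theorem cc_cube : cc ^ 3 = 1 := by decide

/-- permutation of the blocks -/
def tau (m : ℕ) : Equiv.Perm ((Fin 2 × Fin 3) ⊕ Fin m) :=
  Equiv.sumCongr (Equiv.prodCongr (Equiv.refl _) cc) (Equiv.refl _)

def sg (h : 2 * 3 ≤ n) : Equiv.Perm (Fin n) := (eqv h).permCongr (tau (n - 2 * 3))

theorem sg_cube (h : 2 * 3 ≤ n) : sg h ^ 3 = 1 := by
  have h1 : ∀ i, cc (cc (cc i)) = i := by decide
  ext i
  have h2 : (sg h ^ 3) i = sg h (sg h (sg h i)) := by
    rw [pow_succ, pow_two]; rfl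
  rw [h2]
  simp only [sg, Equiv.permCongr_apply, Equiv.symm_apply_apply]
  congr 1
  rcases hx : (eqv h).symm i with ⟨a, b⟩ | b
  · show (eqv h) (Sum.inl (a, cc (cc (cc b)))) = i
    rw [h1, ← hx, Equiv.apply_symm_apply]
  · show (eqv h) (Sum.inr b) = i
    rw [← hx, Equiv.apply_symm_apply]

theorem blk_perm (h : 2 * 3 ≤ n) (g : Fin 3 → Matrix.SpecialLinearGroup (Fin 2) F) (i j : Fin n) :
    (blk h (fun k => g (cc k))).1 i j = (blk h g).1 (sg h i) (sg h j) := by
  change (fromBlocks (blockDiagonal (fun i => (g (cc i) : Matrix (Fin 2) (Fin 2) F))) 0 0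
      (1 : Matrix (Fin (n - 2 * 3)) (Fin (n - 2 * 3)) F)).submatrix (eqv h).symm (eqv h).symm i j =
    (fromBlocks (blockDiagonal (fun i => (g i : Matrix (Fin 2) (Fin 2) F))) 0 0
      (1 : Matrix (Fin (n - 2 * 3)) (Fin (n - 2 * 3)) F)).submatrix (eqv h).symm (eqv h).symm (sg h i) (sg h j)
  rw [submatrix_apply, submatrix_apply]
  have e : ∀ i, (eqv h).symm (sg h i) = tau (n - 2 * 3) ((eqv h).symm i) := by
    intro i
    simp only [sg, Equiv.permCongr_apply, Equiv.symm_apply_apply]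
  rw [e, e]
  rcases (eqv h).symm i with ⟨a, b⟩ | b <;> rcases (eqv h).symm j with ⟨c, d⟩ | d
  · show blockDiagonal (fun i => (g (cc i) : Matrix (Fin 2) (Fin 2) F)) (a, b) (c, d) =
      blockDiagonal (fun i => (g i : Matrix (Fin 2) (Fin 2) F)) (a, cc b) (c, cc d)
    rw [blockDiagonal_apply, blockDiagonal_apply]
    by_cases hbd : b = d
    · subst hbd; simp
    · have : cc b ≠ cc d := fun e => hbd (cc.injective e)
      rw [if_neg hbd, if_neg this]
  · rfl
  · rfl
  · rfl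

/-- the permutation matrix in `SL_n` -/
def sp (F : Type*) [Field F] (h : 2 * 3 ≤ n) : Matrix.SpecialLinearGroup (Fin n) F :=
  ⟨pm F (sg h), det_pm _ (sg_cube h)⟩

theorem sp_cube (h : 2 * 3 ≤ n) : sp F h ^ 3 = 1 := by
  apply Subtype.ext
  rw [Matrix.SpecialLinearGroup.coe_pow]
  exact pm_cube _ (sg_cube h)

theorem sp_conj (h : 2 * 3 ≤ n) (g : Fin 3 → Matrix.SpecialLinearGroup (Fin 2) F) :
    sp F h * blk h g = blk h (fun k => g (cc k)) * sp F h := by
  apply Subtype.ext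
  exact pm_conj _ _ _ (blk_perm h g)

theorem single_cc (i j : Fin 3) (hij : cc j = i) (a : Matrix.SpecialLinearGroup (Fin 2) F) :
    (fun k => (Pi.mulSingle i a : Fin 3 → Matrix.SpecialLinearGroup (Fin 2) F) (cc k)) = Pi.mulSingle j a := by
  funext k
  by_cases hk : k = j
  · subst hk
    rw [hij, Pi.mulSingle_eq_same, Pi.mulSingle_eq_same]
  · rw [Pi.mulSingle_eq_of_ne hk, Pi.mulSingle_eq_of_ne]
    rw [← hij]
    exact fun e => hk (cc.injective e)

theorem sp_f (h : 2 * 3 ≤ n) (i j : Fin 3) (hij : cc j = i) (a : Matrix.SpecialLinearGroup (Fin 2) F) :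
    sp F h * f h i a = f h j a * sp F h := by
  show sp F h * blk h (Pi.mulSingle i a) = blk h (Pi.mulSingle j a) * sp F h
  rw [sp_conj, single_cc i j hij]

theorem six [Fintype F] (hn : 6 ≤ n) (h : Bad (Matrix.ProjectiveSpecialLinearGroup (Fin n) F)) : False := by
  have hb : 2 * 3 ≤ n := hn
  exact h.kill_three (QuotientGroup.mk' (center (Matrix.SpecialLinearGroup (Fin n) F)))
    (by rw [QuotientGroup.ker_mk']) (f hb 0) (f hb 1) (f hb 2) (f_injective hb 0) (f_comm hb (by decide))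
    (f_comm hb (by decide)) (sp_cube hb) (sp_f hb 0 1 (by decide)) (sp_f hb 2 0 (by decide))

/-- elements of order 9 -/
theorem nine [Fintype F] (hn : 2 ≤ n) (h3 : Fintype.card F % 3 ≠ 0)
    (h : Bad (Matrix.ProjectiveSpecialLinearGroup (Fin n) F)) : ¬ 9 ∣ Fintype.card F ^ 2 - 1 := by
  intro h9
  have hb : 2 * 1 ≤ n := by omega
  exact h.kill_nine (three_ne_zero_of h3) h9 (QuotientGroup.mk' (center (Matrix.SpecialLinearGroup (Fin n) F)))
    (by rw [QuotientGroup.ker_mk']) (f hb 0) (f_injective hb 0)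

/-! ### diagonal matrices -/

/-- the 3-cycle on the first three coordinates -/
def sd (hn : 3 ≤ n) : Equiv.Perm (Fin n) :=
  ((finSumFinEquiv (m := 3) (n := n - 3)).trans (finCongr (by omega))).permCongr (Equiv.sumCongr cc (Equiv.refl _))

theorem sd_cube (hn : 3 ≤ n) : sd hn ^ 3 = 1 := by
  have h1 : ∀ i, cc (cc (cc i)) = i := by decide
  ext i
  have h2 : (sd hn ^ 3) i = sd hn (sd hn (sd hn i)) := by
    rw [pow_succ, pow_two]; rfl
  rw [h2]
  simp only [sd, Equiv.permCongr_apply, Equiv.symm_apply_apply]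
  congr 1
  set e := (finSumFinEquiv (m := 3) (n := n - 3)).trans (finCongr (show 3 + (n - 3) = n by omega)) with he
  rcases hx : e.symm i with b | b
  · show e (Sum.inl (cc (cc (cc b)))) = i
    rw [h1, ← hx, Equiv.apply_symm_apply]
  · show e (Sum.inr b) = i
    rw [← hx, Equiv.apply_symm_apply]

theorem sd_zero (hn : 3 ≤ n) : sd hn ⟨0, by omega⟩ = ⟨2, by omega⟩ := by
  simp only [sd, Equiv.permCongr_apply]
  have : ((finSumFinEquiv (m := 3) (n := n - 3)).trans (finCongr (show 3 + (n - 3) = n by omega))).symm ⟨0, by omega⟩ =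
      Sum.inl 0 := by
    rw [Equiv.symm_apply_eq]; rfl
  rw [this]; rfl

theorem sd_one (hn : 3 ≤ n) : sd hn ⟨1, by omega⟩ = ⟨0, by omega⟩ := by
  simp only [sd, Equiv.permCongr_apply]
  have : ((finSumFinEquiv (m := 3) (n := n - 3)).trans (finCongr (show 3 + (n - 3) = n by omega))).symm ⟨1, by omega⟩ =
      Sum.inl 1 := by
    rw [Equiv.symm_apply_eq]; rfl
  rw [this]; rfl

theorem sd_two (hn : 3 ≤ n) : sd hn ⟨2, by omega⟩ = ⟨1, by omega⟩ := by
  simp only [sd, Equiv.permCongr_apply]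
  have : ((finSumFinEquiv (m := 3) (n := n - 3)).trans (finCongr (show 3 + (n - 3) = n by omega))).symm ⟨2, by omega⟩ =
      Sum.inl 2 := by
    rw [Equiv.symm_apply_eq]; rfl
  rw [this]; rfl

theorem sd_ge (hn : 3 ≤ n) (i : Fin n) (hi : 3 ≤ (i : ℕ)) : sd hn i = i := by
  simp only [sd, Equiv.permCongr_apply]
  have : ((finSumFinEquiv (m := 3) (n := n - 3)).trans (finCongr (show 3 + (n - 3) = n by omega))).symm i =
      Sum.inr ⟨i - 3, by omega⟩ := by
    rw [Equiv.symm_apply_eq]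
    apply Fin.ext
    show (i : ℕ) = 3 + (i - 3)
    omega
  rw [this]
  apply Fin.ext
  show 3 + ((i : ℕ) - 3) = i
  omega

/-- the diagonal `(ω, ω², 1, ..., 1)` -/
def dt (ω : F) (i : Fin n) : F := if (i : ℕ) = 0 then ω else if (i : ℕ) = 1 then ω ^ 2 else 1

theorem dt_cube {ω : F} (hω : ω ^ 3 = 1) (i : Fin n) : dt ω i ^ 3 = 1 := by
  unfold dt
  split_ifs
  · exact hω
  · rw [← pow_mul, mul_comm, pow_mul, hω, one_pow]
  · exact one_pow 3

theorem pm_diag (σ : Equiv.Perm (Fin n)) (t : Fin n → F) : pm F σ * diagonal t = diagonal (t ∘ σ) * pm F σ := by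
  apply pm_conj
  intro i j
  by_cases hij : i = j
  · subst hij
    rw [diagonal_apply_eq, diagonal_apply_eq]; rfl
  · have : σ i ≠ σ j := fun e => hij (σ.injective e)
    rw [diagonal_apply_ne _ hij, diagonal_apply_ne _ this]

/-- killing by diagonal matrices and a permutation matrix -/
theorem _root_.Cfsg.Agent.H334.Star.Bad.kill_diag {K : Type*} [Group K] (h : Bad K) {H : Type*} [Group H] (π : H →* K)
    (hker : π.ker ≤ center H) (ι : H →* Matrix (Fin n) (Fin n) F) (hι : Function.Injective ι) (hn : 4 ≤ n)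
    (hcen : ∀ z ∈ center H, ∃ r : F, ι z = diagonal fun _ => r) {ω : F} (hω : ω ^ 3 = 1) (hω1 : ω ≠ 1) {x s : H}
    (hx : ι x = diagonal (dt ω)) (hs : ι s = pm F (sd (n := n) (by omega))) : False := by
  have hn3 : 3 ≤ n := by omega
  have hss : ι s * ι s⁻¹ = 1 := by rw [← map_mul, mul_inv_cancel, map_one]
  have hss' : ι s⁻¹ * ι s = 1 := by rw [← map_mul, inv_mul_cancel, map_one]
  have hy : ι (s * x * s⁻¹) = diagonal (dt ω ∘ sd hn3) := by
    rw [map_mul, map_mul, hx, hs, pm_diag, ← hs, mul_assoc, hss, mul_one]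
  have hz : ι (s⁻¹ * x * s) = diagonal (dt ω ∘ (sd hn3).symm) := by
    have e1 : pm F (sd hn3) * diagonal (dt ω ∘ (sd hn3).symm) = diagonal (dt ω) * pm F (sd hn3) := by
      rw [pm_diag]
      congr 2
      funext i
      simp
    rw [map_mul, map_mul, hx, hs, mul_assoc, ← e1, ← mul_assoc, ← hs, hss', one_mul]
  have hcomm : ∀ t t' : Fin n → F, diagonal t * diagonal t' = diagonal t' * diagonal t := by
    intro t t'
    rw [diagonal_mul_diagonal, diagonal_mul_diagonal]
    congr 1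
    funext i
    exact mul_comm _ _
  refine h.kill π hker (x := x) (s := s) ?_ ?_ ?_ ?_ ?_
  · apply hι
    rw [map_pow, hx, map_one, diagonal_pow, ← diagonal_one]
    congr 1
    funext i
    exact dt_cube hω i
  · apply hι
    rw [map_pow, hs, map_one]
    exact pm_cube _ (sd_cube hn3)
  · apply hι
    rw [map_mul ι x, map_mul ι _ x, hx, hy, hcomm]
  · apply hι
    rw [map_mul ι x, map_mul ι _ x, hx, hz, hcomm]
  · intro hc
    obtain ⟨r, hr⟩ := hcen _ hc
    have h1 : diagonal (fun _ => r) * diagonal (dt ω ∘ sd hn3) = diagonal (dt ω) := by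
      rw [← hr, ← hy, ← map_mul, inv_mul_cancel_right, hx]
    rw [diagonal_mul_diagonal] at h1
    have h2 := diagonal_injective h1
    have h3 := congrFun h2 ⟨3, by omega⟩
    have h4 := congrFun h2 ⟨0, by omega⟩
    simp only [Function.comp_apply] at h3 h4
    rw [sd_ge hn3 _ (by simp)] at h3
    rw [sd_zero hn3] at h4
    simp only [dt] at h3 h4
    norm_num at h3 h4
    rw [h3] at h4
    exact hω1 h4.symm

theorem prod_dt (hn : 2 ≤ n) {ω : F} (hω : ω ^ 3 = 1) : ∏ i : Fin n, dt ω i = 1 := by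
  obtain ⟨k, rfl⟩ : ∃ k, n = k + 2 := ⟨n - 2, by omega⟩
  rw [Fin.prod_univ_succ, Fin.prod_univ_succ]
  have h1 : ∀ i : Fin k, dt (n := k + 2) ω i.succ.succ = 1 := by
    intro i
    simp [dt]
  simp only [h1, Finset.prod_const_one, mul_one]
  have h2 : dt (n := k + 2) ω 0 = ω := by simp [dt]
  have h3 : dt (n := k + 2) ω (Fin.succ 0) = ω ^ 2 := by simp [dt]
  rw [h2, h3, ← hω]; ring

/-- `q = 1 mod 3`, `n ≥ 4` -/
theorem four_one [Fintype F] (hn : 4 ≤ n) (h1 : Fintype.card F % 3 = 1)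
    (h : Bad (Matrix.ProjectiveSpecialLinearGroup (Fin n) F)) : False := by
  obtain ⟨ω, hω⟩ := exists_orderOf (F := F) (m := 3) (by omega)
  have hω3 : ω ^ 3 = 1 := hω ▸ pow_orderOf_eq_one ω
  have hω1 : ω ≠ 1 := by
    rintro rfl
    rw [orderOf_one] at hω
    omega
  exact h.kill_diag (QuotientGroup.mk' (center (Matrix.SpecialLinearGroup (Fin n) F)))
    (by rw [QuotientGroup.ker_mk']) (iota F n) (lin F n).inj hn (fun z hz => (lin F n).cen z hz) hω3 hω1
    (x := dg (dt ω) (prod_dt (by omega) hω3)) (s := ⟨pm F (sd (by omega)), det_pm _ (sd_cube (by omega))⟩) rfl rfl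

/-- **The row `PSL_n(q)`.** -/
theorem row [Fintype F] (hn : 2 ≤ n) (h3 : Fintype.card F % 3 ≠ 0)
    (h : Bad (Matrix.ProjectiveSpecialLinearGroup (Fin n) F)) : False := by
  have hfin : Finite (Matrix.ProjectiveSpecialLinearGroup (Fin n) F) := Quotient.finite _
  have h9 := nine hn h3 h
  have hd := h.dvd
  have hq : 1 < Fintype.card F := Fintype.one_lt_card
  have h12 : Fintype.card F % 3 = 1 ∨ Fintype.card F % 3 = 2 := by omega
  have h81 : 81 ∣ Nat.card (Matrix.ProjectiveSpecialLinearGroup (Fin n) F) := (by norm_num : 81 ∣ 243).trans hd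
  have hn' : n = 2 ∨ n = 3 ∨ n = 4 ∨ n = 5 ∨ 6 ≤ n := by omega
  have hsq : Fintype.card F ^ 2 - 1 = (Fintype.card F + 1) * (Fintype.card F - 1) := by
    simpa using Nat.sq_sub_sq (Fintype.card F) 1
  rcases hn' with rfl | rfl | rfl | rfl | h6
  · have hc := Num.psl2 hq (Cfsg.Agent.S0243.result (F := F) rfl 2 le_rfl)
    have h1 : 3 ^ 4 ∣ Fintype.card F * (Fintype.card F ^ 2 - 1) := hc ▸ dvd_mul_of_dvd_right h81 _
    have h2 : 3 ^ 4 ∣ Fintype.card F ^ 2 - 1 := (Num.cop3 h3 4).dvd_of_dvd_mul_left h1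
    exact h9 ((by norm_num : 9 ∣ 3 ^ 4).trans h2)
  · have hc := Num.psl3 hq (Cfsg.Agent.S0243.result (F := F) rfl 3 (by norm_num))
    rcases h12 with h1 | h2
    · apply h9
      rw [hsq]
      exact dvd_mul_of_dvd_right (Num.psl3_one h1 hc h81) _
    · exact h9 ((by norm_num : 9 ∣ 81).trans (Num.psl3_two h2 hc h81))
  · rcases h12 with h1 | h2
    · exact four_one le_rfl h1 h
    · exact h9 (Num.psl4_two h2 (Num.psl4 hq (Cfsg.Agent.S0243.result (F := F) rfl 4 (by norm_num))) h81)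
  · rcases h12 with h1 | h2
    · exact four_one (by norm_num) h1 h
    · exact h9 (Num.psl5_two h2 (Num.psl5 hq (Cfsg.Agent.S0243.result (F := F) rfl 5 (by norm_num))) h81)
  · exact six h6 h

end Cfsg.Agent.H334.Star.PSL
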