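import Cfsg.Agent.H334.Star.PSL
import Cfsg.Agent.H356.KillPSU

/-!
# `PSU_n(q)`, `3 ∤ q`
-/

set_option autoImplicit false
set_option linter.unusedSectionVars false
set_option linter.unusedVariables false

open Subgroup Matrix

namespace Cfsg.Agent.H334.Star.PSU

open Cfsg Cfsg.Agent.Phan Cfsg.Agent.H356.SLTwo Cfsg.Agent.H356.SLTorus Cfsg.Agent.H356 Cfsg.Agent.H356.KillPSU
  Cfsg.Agent.H334.Star Cfsg.Agent.H334.Star.PSL

variable {F : Type*} [Field F] {n q : ℕ}

/-- a permutation of the first `k` coordinates -/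
def gp {k : ℕ} (c : Equiv.Perm (Fin k)) (hn : k ≤ n) : Equiv.Perm (Fin n) :=
  ((finSumFinEquiv (m := k) (n := n - k)).trans (finCongr (by omega))).permCongr (Equiv.sumCongr c (Equiv.refl _))

theorem gp_cube {k : ℕ} (c : Equiv.Perm (Fin k)) (hn : k ≤ n) (h1 : ∀ i, c (c (c i)) = i) : gp c hn ^ 3 = 1 := by
  ext i
  have h2 : (gp c hn ^ 3) i = gp c hn (gp c hn (gp c hn i)) := by
    rw [pow_succ, pow_two]; rfl
  rw [h2]
  simp only [gp, Equiv.permCongr_apply, Equiv.symm_apply_apply]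
  congr 1
  set e := (finSumFinEquiv (m := k) (n := n - k)).trans (finCongr (show k + (n - k) = n by omega)) with he
  rcases hx : e.symm i with b | b
  · show e (Sum.inl (c (c (c b)))) = i
    rw [h1, ← hx, Equiv.apply_symm_apply]
  · show e (Sum.inr b) = i
    rw [← hx, Equiv.apply_symm_apply]

theorem gp_apply {k : ℕ} (c : Equiv.Perm (Fin k)) (hn : k ≤ n) (i : Fin k) :
    gp c hn (Fin.castLE hn i) = Fin.castLE hn (c i) := by
  simp only [gp, Equiv.permCongr_apply]
  have : ((finSumFinEquiv (m := k) (n := n - k)).trans (finCongr (show k + (n - k) = n by omega))).symm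
      (Fin.castLE hn i) = Sum.inl i := by
    rw [Equiv.symm_apply_eq]; rfl
  rw [this]; rfl

/-- the permutation `i ↦ i + 4` of `Fin 6` -/
def c6 : Equiv.Perm (Fin 6) := Equiv.addRight 4

theorem c6_cube : ∀ i, c6 (c6 (c6 i)) = i := by decide

theorem pm_mulVec (σ : Equiv.Perm (Fin n)) (v : Fin n → F) : pm F σ *ᵥ v = v ∘ σ := by
  funext i
  rw [pm, mulVec, dotProduct, Finset.sum_eq_single (σ i)]
  · rw [submatrix_apply, id, one_apply_eq, one_mul]; rfl
  · intro b _ hb
    rw [submatrix_apply, id, one_apply_ne (Ne.symm hb), zero_mul]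
  · intro h; exact absurd (Finset.mem_univ _) h

/-- the permutation matrix in `SU_n` -/
def pmu (F : Type*) [Field F] (q : ℕ) (σ : Equiv.Perm (Fin n)) (h : σ ^ 3 = 1) : SU n F q :=
  mk (pm F σ) (det_pm σ h) (by
    intro u v
    rw [pm_mulVec, pm_mulVec]
    unfold hermForm
    exact Equiv.sum_comp σ (fun i => u i * v i ^ q))

theorem pmu_cube (σ : Equiv.Perm (Fin n)) (h : σ ^ 3 = 1) : pmu F q σ h ^ 3 = 1 := by
  apply mat_inj
  have h1 : mat ((pmu F q σ h) ^ 3) = mat (pmu F q σ h) ^ 3 := rfl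
  rw [h1]
  exact pm_cube σ h

theorem extM_perm {m : ℕ} (σ : Equiv.Perm (Fin n)) {e e' : Fin m → Fin n} (h : ∀ i, σ (e' i) = e i)
    (A : Matrix (Fin m) (Fin m) F) (i j : Fin n) : extM e' A i j = extM e A (σ i) (σ j) := by
  have h1 : ∀ x k, inc F e (σ x) k = inc F e' x k := by
    intro x k
    rw [inc_apply, inc_apply, ← h]
    simp only [σ.injective.eq_iff]
  simp only [extM, Matrix.add_apply, Matrix.mul_apply, transpose_apply, h1]
  congr 1
  by_cases hij : i = j
  · subst hij; simp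
  · rw [one_apply_ne hij, one_apply_ne (fun e => hij (σ.injective e))]

theorem pmu_ext [Fintype F] (hF : Fintype.card F = q ^ 2) {m : ℕ} (σ : Equiv.Perm (Fin n)) (hσ : σ ^ 3 = 1)
    {e e' : Fin m → Fin n} (he : Function.Injective e) (he' : Function.Injective e') (h : ∀ i, σ (e' i) = e i)
    (A : SU m F q) : pmu F q σ hσ * ext hF e he A = ext hF e' he' A * pmu F q σ hσ := by
  apply mat_inj
  rw [mat_mul, mat_mul, mat_ext, mat_ext]
  exact pm_conj σ _ _ (extM_perm σ h _)

/-- `SL₂(q)` in the blocks of `SU_n(q)`, permuted -/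
theorem six [Fintype F] (hF : Fintype.card F = q ^ 2) (h3 : q % 3 ≠ 0) (hn : 6 ≤ n) (h : Bad (PSU n F q)) : False := by
  have hq2 : IsPrimePow (q ^ 2) := hF ▸ Fintype.isPrimePow_card_of_field
  have hqp : IsPrimePow q := (isPrimePow_pow_iff (by norm_num)).1 hq2
  obtain ⟨K, _, _, hK⟩ := exists_field hqp
  obtain ⟨-, g, hg, hr, -⟩ := Cfsg.Agent.Classification.QDW.SUTwoTrace.exists_hom hF hK
  have hmem : ∀ s, g s ∈ SU 2 F q := fun s => by rw [← hr]; exact ⟨s, rfl⟩
  let f : ∀ k : ℕ, k + 2 ≤ n → (Matrix.SpecialLinearGroup (Fin 2) K →* SU n F q) :=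
    fun k h => (emb hF k h).comp (g.codRestrict (SU 2 F q) hmem)
  have hinj : ∀ k hk, Function.Injective (f k hk) := by
    intro k h a b hab
    have h1 := emb_injective hF k h hab
    exact hg (congrArg Subtype.val h1)
  have hc : ∀ k hk k' hk', k + 2 ≤ k' → ∀ a b, f k hk a * f k' hk' b = f k' hk' b * f k hk a :=
    fun k hk k' hk' hkk a b => emb_comm hF hk hk' (Or.inl hkk) _ _
  have hcyc := gp_cube c6 hn c6_cube
  have hap : ∀ i : Fin 6, gp c6 hn (Fin.castLE hn i) = Fin.castLE hn (c6 i) := gp_apply c6 hn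
  refine h.kill_three (QuotientGroup.mk' (center (SU n F q))) (by rw [QuotientGroup.ker_mk'])
    (f 0 (by omega)) (f 2 (by omega)) (f 4 (by omega)) (hinj _ _) (hc _ _ _ _ (by omega)) (hc _ _ _ _ (by omega))
    (s := pmu F q (gp c6 hn) hcyc) (pmu_cube _ _) ?_ ?_
  · intro a
    refine pmu_ext hF _ hcyc (sh_injective 0 _) (sh_injective 2 _) ?_ _
    intro i
    fin_cases i
    · exact hap 2
    · exact hap 3
  · intro a
    refine pmu_ext hF _ hcyc (sh_injective 4 _) (sh_injective 0 _) ?_ _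
    intro i
    fin_cases i
    · exact hap 0
    · exact hap 1

/-- elements of order 9 -/
theorem nine [Fintype F] (hF : Fintype.card F = q ^ 2) (h3 : q % 3 ≠ 0) (hn : 3 ≤ n) (h : Bad (PSU n F q)) :
    ¬ 9 ∣ q ^ 2 - 1 := by
  intro h9
  obtain ⟨K, _, _, hK, hf⟩ := exists_blocks hF
  obtain ⟨f, hi, hc⟩ := hf n
  have h3' : (3 : K) ≠ 0 := KillPSL.three_ne_zero_of (by rw [hK]; exact h3)
  exact h.kill_nine h3' (by rw [hK]; exact h9) (QuotientGroup.mk' (center (SU n F q))) (by rw [QuotientGroup.ker_mk'])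
    (f 0 (by omega)) (hi _ _)

/-- `q = 2 mod 3`, `n ≥ 4` -/
theorem four_two [Fintype F] (hF : Fintype.card F = q ^ 2) (h2 : q % 3 = 2) (hn : 4 ≤ n) (h : Bad (PSU n F q)) :
    False := by
  have hd : q + 1 ∣ Fintype.card F - 1 := by
    rw [hF]
    have : q ^ 2 - 1 = (q + 1) * (q - 1) := by
      simpa using Nat.sq_sub_sq q 1
    rw [this]
    exact dvd_mul_right _ _
  have h3d : 3 ∣ q + 1 := by omega
  obtain ⟨ω, hω⟩ := KillPSL.exists_orderOf (F := F) (h3d.trans hd)
  have hω3 : ω ^ 3 = 1 := hω ▸ pow_orderOf_eq_one ω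
  have hω1 : ω ≠ 1 := by
    rintro rfl
    rw [orderOf_one] at hω
    norm_num at hω
  have hωq : ω ^ (q + 1) = 1 := by
    rw [← orderOf_dvd_iff_pow_eq_one, hω]
    exact h3d
  have hωq' : (ω ^ 2) ^ (q + 1) = 1 := by rw [← pow_mul, mul_comm, pow_mul, hωq, one_pow]
  exact h.kill_diag (QuotientGroup.mk' (center (SU n F q)))
    (by rw [QuotientGroup.ker_mk']) (iota F n q) (lin hF (by omega)).inj hn (fun z hz => (lin hF (by omega)).cen z hz)
    hω3 hω1
    (x := dg (dt ω) (prod_dt (by omega) hω3) (by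
      intro i
      unfold dt
      split_ifs
      · exact hωq
      · exact hωq'
      · exact one_pow _)) (s := pmu F q (sd (by omega)) (sd_cube (by omega))) rfl rfl

/-- **The row `PSU_n(q)`.** -/
theorem row [Fintype F] (hF : Fintype.card F = q ^ 2) (hn : 3 ≤ n) (h3 : q % 3 ≠ 0)
    (h : Bad (PSU n F q)) : False := by
  have hfin : Finite (PSU n F q) := Quotient.finite _
  have h9 := nine hF h3 hn h
  have hd := h.dvd
  have h12 : q % 3 = 1 ∨ q % 3 = 2 := by omega
  have h81 : 81 ∣ Nat.card (PSU n F q) := (by norm_num : 81 ∣ 243).trans hd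
  have hsq : q ^ 2 - 1 = (q + 1) * (q - 1) := by
    simpa using Nat.sq_sub_sq q 1
  have hn' : n = 3 ∨ n = 4 ∨ n = 5 ∨ 6 ≤ n := by omega
  rcases hn' with rfl | rfl | rfl | h6
  · have hc := Num.psu3 (Cfsg.Agent.S0280.result hF 3 (by norm_num))
    rcases h12 with h1 | h2
    · exact h9 ((by norm_num : 9 ∣ 81).trans (Num.psu3_one h1 hc h81))
    · apply h9
      rw [hsq]
      exact dvd_mul_of_dvd_left (Num.psu3_two h2 hc h81) _
  · rcases h12 with h1 | h2
    · exact h9 (Num.psu4_one h1 (Num.psu4 (Cfsg.Agent.S0280.result hF 4 (by norm_num))) h81)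
    · exact four_two hF h2 (by norm_num) h
  · rcases h12 with h1 | h2
    · exact h9 (Num.psu5_one h1 (Num.psu5 (Cfsg.Agent.S0280.result hF 5 (by norm_num))) h81)
    · exact four_two hF h2 (by norm_num) h
  · exact six hF h3 h6 h

end Cfsg.Agent.H334.Star.PSU
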