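import Cfsg.Agent.H334.Star.Base
import Cfsg.Agent.NotCT.Orders
import Cfsg.Agent.H573.Spor.CoThree
import Cfsg.Agent.H573.Spor.McLThree
import Cfsg.Agent.H573.Spor.Suz
import Cfsg.Agent.H573.Spor.LyThree
import Cfsg.Agent.H573.Spor.FiTwentyTwo
import Cfsg.Agent.H573.Spor.FiTwentyThree
import Cfsg.Agent.H573.Spor.FiTwentyFour
import Cfsg.Agent.H573.Spor.HNThree
import Cfsg.Agent.H573.Spor.ThThree
import Cfsg.Agent.H573.Spor.BThree
import Cfsg.Agent.H573.Spor.MThree
import Cfsg.Agent.H573.Spor.JThree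

/-!
# Sporadic groups and the Tits group
-/

set_option autoImplicit false
set_option linter.unusedSectionVars false
set_option linter.unusedVariables false

open Subgroup

namespace Cfsg.Agent.H334.Star

open Cfsg Cfsg.Agent.H573 Cfsg.Agent.NotCT

theorem Bad.pcent {K : Type*} [Group K] [Finite K] (h : Bad K) : PCent 3 K := by
  have h3 : Fact (Nat.Prime 3) := ⟨Nat.prime_three⟩
  refine PCent.of_sylow fun x hx => ?_
  obtain ⟨k, hk⟩ := hx
  have hp : IsPGroup 3 (zpowers x) := by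
    rintro ⟨y, hy⟩
    obtain ⟨j, rfl⟩ := mem_zpowers_iff.1 hy
    refine ⟨k, Subtype.ext ?_⟩
    show (x ^ j) ^ 3 ^ k = 1
    rw [← zpow_natCast, ← zpow_mul, mul_comm, zpow_mul, zpow_natCast, ← hk, pow_orderOf_eq_one, one_zpow]
  obtain ⟨S, hS⟩ := hp.exists_le_sylow
  exact ⟨S, fun y hy => (h.1 S y hy).2 x (hS (mem_zpowers x))⟩

theorem Bad.of_card {K : Type*} [Group K] [Finite K] (h : Bad K) {n : ℕ} (hn : Nat.card K = n) (hd : ¬ 243 ∣ n) :
    False := hd (hn ▸ h.dvd)

/-- **The sporadic groups.** -/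
theorem spor_row {K : Type*} [Group K] [Finite K] (hK : Cfsg.IsSporadicGroup K) (h : Bad K) : False := by
  rcases hK with h1 | h1 | h1 | h1 | h1 | h1 | h1 | h1 | h1 | h1 | h1 | h1 | h1 | h1 | h1 | h1 | h1 | h1 | h1 | h1 |
    h1 | h1 | h1 | h1 | h1 | h1
  · exact h.of_card (Orders.m11 h1) (by norm_num)
  · exact h.of_card (Orders.m12 h1) (by norm_num)
  · exact h.of_card (Orders.m22 h1) (by norm_num)
  · exact h.of_card (Orders.m23 h1) (by norm_num)
  · exact h.of_card (Orders.m24 h1) (by norm_num)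
  · exact h.of_card (Orders.j1 h1) (by norm_num)
  · exact h.of_card (Orders.j2 h1) (by norm_num)
  · exact Spor.j3_3 h1 h.pcent
  · exact h.of_card (Orders.j4 h1) (by norm_num)
  · exact Spor.co1_3 h1 h.pcent
  · exact Spor.co2_3 h1 h.pcent
  · exact Spor.co3_3 h1 h.pcent
  · exact Spor.mcl_3 h1 h.pcent
  · exact h.of_card (Orders.hs h1) (by norm_num)
  · exact Spor.suz_3 h1 h.pcent
  · exact h.of_card (Orders.he h1) (by norm_num)
  · exact h.of_card (Orders.ru h1) (by norm_num)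
  · exact h.of_card (Orders.on h1) (by norm_num)
  · exact Spor.ly_3 h1 h.pcent
  · exact Spor.fi22_3 h1 h.pcent
  · exact Spor.fi23_3 h1 h.pcent
  · exact Spor.fi24_3 h1 h.pcent
  · exact Spor.hn_3 h1 h.pcent
  · exact Spor.th_3 h1 h.pcent
  · exact Spor.b_3 h1 h.pcent
  · exact Spor.m_3 h1 h.pcent

end Cfsg.Agent.H334.Star
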