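import Cfsg.Agent.H334.Sp4.Twin
import Cfsg.Agent.H334.Star.Own
import Cfsg.Agent.H334.Star.PslTwo
import Cfsg.Agent.H334.Star.PSL
import Cfsg.Agent.H334.Star.PSp
import Cfsg.Agent.H334.Star.PSU
import Cfsg.Agent.H334.Star.Orth
import Cfsg.Agent.H334.Star.Alt
import Cfsg.Agent.H334.Star.Exc
import Cfsg.Agent.H334.Star.Spor
import Cfsg.Agent.S0000

/-!
# The theorem `Star`: elementary abelian Sylow 3-subgroups of order `> 81` in simple groups
-/

set_option autoImplicit false
set_option linter.unusedSectionVars false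
set_option linter.unusedVariables false

open Subgroup

universe u

namespace Cfsg.Agent.H334.Star

open Cfsg

theorem mod_or (F : Type) [Field F] [Fintype F] : CharP F 3 ∨ Fintype.card F % 3 ≠ 0 := by
  rcases charP_or F with h | h
  · exact Or.inl h
  · right
    intro h0
    obtain ⟨p, hp⟩ := CharP.exists F
    have hpp : p.Prime := (CharP.char_is_prime_or_zero F p).resolve_right (CharP.char_ne_zero_of_finite F p)
    have : Fact p.Prime := ⟨hpp⟩
    obtain ⟨n, -, hn⟩ := FiniteField.card F p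
    have h1 : 3 ∣ p ^ (n : ℕ) := by rw [← hn]; exact Nat.dvd_of_mod_eq_zero h0
    have h2 := (Nat.prime_dvd_prime_iff_eq Nat.prime_three hpp).1 (Nat.prime_three.dvd_of_dvd_pow h1)
    subst h2
    exact h (by exact_mod_cast CharP.cast_eq_zero F 3)

/-- `Bad K` implies Lie type in characteristic 3, or `K` is of prime order -/
theorem lie_of_bad {K : Type u} [Group K] [Finite K] [IsSimpleGroup K] (h : Bad K) :
    Cfsg.IsPrimeCyclic K ∨ Cfsg.IsLieTypeChar 3 K := by
  rcases (Cfsg.Agent.S0000.result : Cfsg.IsKnownSimple' K) with h1 | h1 | h1 | h1 | h1 | h1 | h1 | h1 | h1 | h1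
  · exact Or.inl h1
  · obtain ⟨n, hn, ⟨e⟩⟩ := h1
    exact (alt_row hn (h.of_equiv e)).elim
  · obtain ⟨F, _, _, n, hn, hF, ⟨e⟩⟩ := h1
    rcases mod_or F with hc | hc
    · exact Or.inr (Or.inl ⟨F, inferInstance, inferInstance, hc, n, hn, hF, ⟨e⟩⟩)
    · exact (PSL.row hn hc (h.of_equiv e)).elim
  · obtain ⟨F, _, _, n, hn, hF, ⟨e⟩⟩ := h1
    rcases mod_or F with hc | hc
    · exact Or.inr (Or.inr (Or.inl ⟨F, inferInstance, inferInstance, hc, n, hn, hF, ⟨e⟩⟩))
    · exact (PSp.row hn hc (h.of_equiv e)).elim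
  · obtain ⟨F, _, _, n, q, hF, hn, hq, ⟨e⟩⟩ := h1
    rcases mod_or F with hc | hc
    · exact Or.inr (Or.inr (Or.inr (Or.inl ⟨F, inferInstance, inferInstance, hc, n, q, hF, hn, hq, ⟨e⟩⟩)))
    · refine (PSU.row hF hn ?_ (h.of_equiv e)).elim
      intro h0
      apply hc
      rw [hF, Nat.pow_mod, h0]
  · obtain ⟨F, _, _, m, hm, hF, ⟨e⟩⟩ := h1
    rcases mod_or F with hc | hc
    · exact Or.inr (Or.inr (Or.inr (Or.inr (Or.inl ⟨F, inferInstance, inferInstance, hc, m, hm, hF, ⟨e⟩⟩))))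
    · exact (Orth.odd_row hm hF hc (h.of_equiv e)).elim
  · obtain ⟨F, _, _, m, hm, ⟨e⟩⟩ := h1
    rcases mod_or F with hc | hc
    · exact Or.inr (Or.inr (Or.inr (Or.inr (Or.inr (Or.inl ⟨F, inferInstance, inferInstance, hc, m, hm, ⟨e⟩⟩)))))
    · exact (Orth.plus_row hm hc (h.of_equiv e)).elim
  · obtain ⟨F, _, _, m, a, b, hm, hab, ⟨e⟩⟩ := h1
    rcases mod_or F with hc | hc
    · exact Or.inr (Or.inr (Or.inr (Or.inr (Or.inr (Or.inr (Or.inl
        ⟨F, inferInstance, inferInstance, hc, m, a, b, hm, hab, ⟨e⟩⟩))))))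
    · exact (Orth.minus_row hm a b hab hc (h.of_equiv e)).elim
  · exact Or.inr (exc_row h1 h)
  · exact (spor_row h1 h).elim

/-- **The theorem `Star`.** -/
theorem star : Cfsg.Agent.H334.Sp4.Star.{u} := by
  intro K _ _ _ h1 h2 z hz g h hg hh
  have hB : Bad K := ⟨h1, h2⟩
  by_cases hc : ∃ a b : K, a * b ≠ b * a
  · rcases lie_of_bad hB with h3 | h3
    · have : Fact (Nat.Prime (Nat.card K)) := ⟨h3⟩
      have : IsCyclic K := isCyclic_of_prime_card rfl
      obtain ⟨a, b, hab⟩ := hc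
      exact absurd (IsCyclic.commGroup.mul_comm a b) hab
    · obtain ⟨F, _, _, _, ⟨e⟩⟩ := own hc hB h3
      have h3' : (3 : F) = 0 := by exact_mod_cast CharP.cast_eq_zero F 3
      have key := psl_two_cent h3' (z := e z) (g := e g) (h := e h)
        (by rw [← hz]; exact orderOf_injective e.toMonoidHom e.injective z)
        (by rw [← map_mul, ← map_mul, hg]) (by rw [← map_mul, ← map_mul, hh])
      rw [← map_mul, ← map_mul] at key
      exact e.injective key
  · push Not at hc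
    exact hc g h

end Cfsg.Agent.H334.Star
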